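import Groth.Prelude.Def_EtBase
import Groth.Agent.Lib.EtSite.Points
import Groth.Agent.Lib.EtBasicB.Sections
import Groth.Agent.Lib.FEt21.Basic
import Groth.Agent.Lib.LocConst.Generic
import Mathlib.AlgebraicGeometry.Morphisms.QuasiFinite
import Mathlib.CategoryTheory.CofilteredSystem

/-!
# Every point of the small étale site is geometric

A point picks, for each element of its fibre, a point of the scheme; a compatible system of
geometric points over them exists by compactness and gives the comparison of fibre functors.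
-/

set_option autoImplicit false
set_option backward.isDefEq.respectTransparency false
set_option backward.isDefEq.respectTransparency.types false
set_option linter.style.haveILetI false

universe u

open CategoryTheory CategoryTheory.Limits AlgebraicGeometry Opposite TopologicalSpace
open GrothLib.EtSite

noncomputable section

namespace GrothLib.EtPoint18

variable {S : Scheme.{u}} (p : GrothendieckTopology.Point.{u} S.smallEtaleTopology)

/-- The structure map. -/
abbrev str (U : S.Etale) : U.left ⟶ S := U.hom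

theorem w_str {U U' : S.Etale} (g : U' ⟶ U) : g.left ≫ str U = str U' := Over.w g.hom

instance (U : S.Etale) : Etale (str U) := U.prop

/-- An open of an étale scheme, as an étale scheme. -/
abbrev openSub {U : S.Etale} (O : U.left.Opens) : S.Etale := Scheme.Etale.mk (O.ι ≫ str U)

/-- Its inclusion. -/
abbrev incl {U : S.Etale} (O : U.left.Opens) : openSub O ⟶ U := MorphismProperty.Over.homMk O.ι rfl

/-- A map into `U` with image in `O` factors through `O`. -/
theorem exists_factor {U W : S.Etale} (O : U.left.Opens) (g : W ⟶ U) (h : ∀ w, g.left w ∈ O) :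
    ∃ k : W ⟶ openSub O, k ≫ incl O = g := by
  refine ⟨MorphismProperty.Over.homMk (IsOpenImmersion.lift O.ι g.left ?_) ?_, ?_⟩
  · rintro _ ⟨w, rfl⟩
    exact ⟨⟨_, h w⟩, rfl⟩
  · show _ ≫ O.ι ≫ str U = str W
    rw [IsOpenImmersion.lift_fac_assoc, w_str]
  · exact MorphismProperty.Over.Hom.ext (IsOpenImmersion.lift_fac _ _ _)

theorem map_map {U V W : S.Etale} (g : W ⟶ V) (h : V ⟶ U) (z : p.fiber.obj W) :
    p.fiber.map h (p.fiber.map g z) = p.fiber.map (g ≫ h) z := by
  rw [Functor.map_comp, ConcreteCategory.comp_apply]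

/-- `x` lifts to the open `O`. -/
def Lift {U : S.Etale} (x : p.fiber.obj U) (O : U.left.Opens) : Prop :=
  ∃ y : p.fiber.obj (openSub O), p.fiber.map (incl O) y = x

variable {p}

theorem lift_of_map {U W : S.Etale} {O : U.left.Opens} (g : W ⟶ U) (h : ∀ w, g.left w ∈ O)
    (z : p.fiber.obj W) {x : p.fiber.obj U} (hz : p.fiber.map g z = x) : Lift p x O := by
  obtain ⟨k, hk⟩ := exists_factor O g h
  exact ⟨p.fiber.map k z, by rw [map_map, hk, hz]⟩

theorem lift_top {U : S.Etale} (x : p.fiber.obj U) : Lift p x ⊤ :=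
  lift_of_map (O := ⊤) (𝟙 U) (fun _ => trivial) x (by simp)

theorem lift_mono {U : S.Etale} {x : p.fiber.obj U} {O O' : U.left.Opens} (hle : O ≤ O') (h : Lift p x O) :
    Lift p x O' := by
  obtain ⟨y, hy⟩ := h
  exact lift_of_map (incl O) (fun w => hle w.2) y hy

/-- Two elements over the same one are dominated by a third. -/
theorem exists_dom {U V V' : S.Etale} (g : V ⟶ U) (g' : V' ⟶ U) (y : p.fiber.obj V) (y' : p.fiber.obj V')
    (h : p.fiber.map g y = p.fiber.map g' y') :
    ∃ (W : S.Etale) (z : p.fiber.obj W) (k : W ⟶ V) (k' : W ⟶ V'),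
      p.fiber.map k z = y ∧ p.fiber.map k' z = y' ∧ k ≫ g = k' ≫ g' := by
  haveI := p.isCofiltered
  let i : p.fiber.Elements := p.fiber.elementsMk U (p.fiber.map g y)
  let j : p.fiber.Elements := p.fiber.elementsMk V y
  let j' : p.fiber.Elements := p.fiber.elementsMk V' y'
  obtain ⟨k, a, a', hk⟩ := IsCofiltered.cospan (i := i) (j := j) (j' := j')
    (CategoryOfElements.homMk j i g rfl) (CategoryOfElements.homMk j' i g' h.symm)
  exact ⟨k.1, k.2, a.1, a'.1, a.2, a'.2, congrArg Subtype.val hk⟩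

theorem lift_inf {U : S.Etale} {x : p.fiber.obj U} {O O' : U.left.Opens} (h : Lift p x O) (h' : Lift p x O') :
    Lift p x (O ⊓ O') := by
  obtain ⟨y, hy⟩ := h
  obtain ⟨y', hy'⟩ := h'
  obtain ⟨W, z, k, k', hk, hk', he⟩ := exists_dom (incl O) (incl O') y y' (hy.trans hy'.symm)
  refine lift_of_map (O := O ⊓ O') (k ≫ incl O) (fun w => ⟨?_, ?_⟩) z (by rw [← map_map, hk, hy])
  · exact (k.left w).2
  · rw [he]; exact (k'.left w).2

theorem exists_lift_iSup {U : S.Etale} {x : p.fiber.obj U} {ι : Type*} (O : ι → U.left.Opens)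
    (h : Lift p x (⨆ i, O i)) : ∃ i, Lift p x (O i) := by
  obtain ⟨y, hy⟩ := h
  let R : Sieve (openSub (⨆ i, O i)) :=
    { arrows := fun V g => ∃ i, ∀ v, (g ≫ incl (⨆ i, O i)).left v ∈ O i
      downward_closed := by
        rintro V V' g ⟨i, hi⟩ k
        exact ⟨i, fun v => hi (k.left v)⟩ }
  have hR : R ∈ S.smallEtaleTopology _ := by
    rw [mem_topology_iff]
    intro w
    obtain ⟨i, hi⟩ := TopologicalSpace.Opens.mem_iSup.1 w.2
    obtain ⟨k, hk⟩ := exists_factor (⨆ i, O i) (incl (O i)) fun v => le_iSup O i v.2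
    refine ⟨openSub (O i), k, ⟨_, hi⟩, ⟨i, fun v => ?_⟩, ?_⟩
    · rw [hk]; exact v.2
    · exact (⨆ i, O i).ι.isOpenEmbedding.injective
        (congrArg (fun m : openSub (O i) ⟶ U => m.left ⟨_, hi⟩) hk)
  obtain ⟨V, g, ⟨i, hi⟩, z, hz⟩ := p.jointly_surjective R hR y
  exact ⟨i, lift_of_map (g ≫ incl _) hi z (by rw [← map_map, hz, hy])⟩

theorem not_lift_bot {U : S.Etale} (x : p.fiber.obj U) : ¬ Lift p x ⊥ := fun h => by
  have h' : Lift p x (⨆ i : Empty, (⊥ : U.left.Opens)) := lift_mono bot_le h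
  exact (exists_lift_iSup (fun _ : Empty => (⊥ : U.left.Opens)) h').choose.elim

theorem exists_point {U : S.Etale} (x : p.fiber.obj U) :
    ∃ u : U.left, ∀ O : U.left.Opens, Lift p x O ↔ u ∈ O := by
  let ι := {O : U.left.Opens // ¬ Lift p x O}
  let B : U.left.Opens := ⨆ O : ι, O.1
  have hB : ¬ Lift p x B := fun h => by
    obtain ⟨i, hi⟩ := exists_lift_iSup (fun O : ι => O.1) h
    exact i.2 hi
  have key : ∀ O : U.left.Opens, Lift p x O ↔ ¬ (O : Set U.left) ⊆ B := fun O =>
    ⟨fun h hO => hB (lift_mono hO h), fun h => by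
      by_contra hO
      exact h (le_iSup (fun O : ι => O.1) ⟨O, hO⟩)⟩
  have hirr : IsIrreducible ((B : Set U.left)ᶜ) := by
    constructor
    · obtain ⟨u, -, hu⟩ := Set.not_subset.1 ((key ⊤).1 (lift_top x))
      exact ⟨u, hu⟩
    · rintro a b ha hb ⟨y, hy, hya⟩ ⟨z, hz, hzb⟩
      have h1 := lift_inf ((key ⟨a, ha⟩).2 fun h => hy (h hya)) ((key ⟨b, hb⟩).2 fun h => hz (h hzb))
      obtain ⟨u, hu, hu'⟩ := Set.not_subset.1 ((key _).1 h1)
      exact ⟨u, hu', hu⟩
  obtain ⟨u, hu⟩ := QuasiSober.sober hirr B.isOpen.isClosed_compl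
  refine ⟨u, fun O => (key O).trans ⟨fun h => ?_, fun h hO => ?_⟩⟩
  · obtain ⟨v, hvO, hvB⟩ := Set.not_subset.1 h
    exact (hu.specializes hvB).mem_open O.isOpen hvO
  · exact hu.mem (hO h)

/-- The point under an element of the fibre. -/
def pt {U : S.Etale} (x : p.fiber.obj U) : U.left := (exists_point x).choose

theorem lift_iff {U : S.Etale} (x : p.fiber.obj U) (O : U.left.Opens) : Lift p x O ↔ pt x ∈ O :=
  (exists_point x).choose_spec O

theorem pt_map {U V : S.Etale} (g : V ⟶ U) (y : p.fiber.obj V) : g.left (pt y) = pt (p.fiber.map g y) := by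
  refine Inseparable.eq (inseparable_iff_forall_isOpen.2 fun o ho => ?_)
  change pt y ∈ g.left ⁻¹ᵁ ⟨o, ho⟩ ↔ pt (p.fiber.map g y) ∈ (⟨o, ho⟩ : U.left.Opens)
  rw [← lift_iff, ← lift_iff]
  constructor
  · rintro ⟨z, hz⟩
    exact lift_of_map (incl _ ≫ g) (fun w => w.2) z (by rw [← map_map, hz])
  · rintro ⟨z, hz⟩
    obtain ⟨W, r, k, k', hk, hk', he⟩ := exists_dom (incl _) g z y hz
    refine lift_of_map k' (fun w => ?_) r hk'
    show (k' ≫ g).left w ∈ o
    rw [← he]
    exact (k.left w).2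

variable (p) in
theorem exists_base_point : ∃ s : S, ∀ (U : S.Etale) (x : p.fiber.obj U), str U (pt x) = s := by
  haveI := p.isCofiltered
  let T : S.Etale := Scheme.Etale.mk (𝟙 S)
  obtain ⟨e⟩ := IsCofiltered.nonempty (C := p.fiber.Elements)
  let toT : ∀ U : S.Etale, U ⟶ T := fun U => MorphismProperty.Over.homMk (str U) (Category.comp_id _)
  refine ⟨pt (p.fiber.map (toT e.1) e.2), fun U x => ?_⟩
  obtain ⟨k, a, b, -⟩ := IsCofilteredOrEmpty.cone_objs e (p.fiber.elementsMk U x)
  rw [show str U (pt x) = (toT U).left (pt x) from rfl, pt_map]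
  refine congrArg pt ?_
  have ha : p.fiber.map a.1 k.2 = e.2 := a.2
  have hb : p.fiber.map b.1 k.2 = x := b.2
  rw [← ha, ← hb, map_map, map_map]
  congr 3
  exact MorphismProperty.Over.Hom.ext ((w_str b.1).trans (w_str a.1).symm)

section Compare

variable {Ω : Type u} [Field Ω] [IsSepClosed Ω] (ξ : Spec (CommRingCat.of Ω) ⟶ S)

/-- The fibre of the geometric point. -/
abbrev fibF : S.Etale ⥤ Type u := (Scheme.pointSmallEtale ξ).fiber

variable {ξ}

/-- The image of a lift. -/
abbrev im {U : S.Etale} (t : (fibF ξ).obj U) : U.left := t.left (default : Spec (CommRingCat.of Ω))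

theorem str_im {U : S.Etale} (t : (fibF ξ).obj U) : str U (im t) = ξ default := by
  have h : t.left ≫ str U = ξ := Over.w t
  exact congrArg (fun k : Spec (CommRingCat.of Ω) ⟶ S => k default) h

theorem im_map {U V : S.Etale} (g : V ⟶ U) (t : (fibF ξ).obj V) :
    im ((fibF ξ).map g t) = g.left (im t) := rfl

variable (p) (V : S.Opens) in
/-- Elements with affine scheme over a fixed affine open. -/
def Good : ObjectProperty p.fiber.Elements := fun e => IsAffine e.1.left ∧ ∀ w, str e.1 w ∈ V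

variable {V : S.Opens}

theorem exists_good (hV : ∀ (U : S.Etale) (x : p.fiber.obj U), str U (pt x) ∈ V) (e : p.fiber.Elements) :
    ∃ j : p.fiber.Elements, Good p V j ∧ Nonempty (j ⟶ e) := by
  obtain ⟨_, ⟨O, hO, rfl⟩, hmem, hsub⟩ := e.1.left.isBasis_affineOpens.exists_subset_of_mem_open
    (show pt e.2 ∈ (str e.1 ⁻¹ᵁ V : Set e.1.left) from hV e.1 e.2) (str e.1 ⁻¹ᵁ V).isOpen
  obtain ⟨y, hy⟩ := (lift_iff e.2 O).2 hmem
  exact ⟨p.fiber.elementsMk (openSub O) y, ⟨hO, fun w => hsub w.2⟩, ⟨⟨incl O, hy⟩⟩⟩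

theorem isCofiltered_good (hV : ∀ (U : S.Etale) (x : p.fiber.obj U), str U (pt x) ∈ V) :
    IsCofilteredOrEmpty (Good p V).FullSubcategory := by
  haveI := p.isCofiltered
  constructor
  · intro a b
    obtain ⟨k, f, g, -⟩ := IsCofilteredOrEmpty.cone_objs a.1 b.1
    obtain ⟨j, hj, ⟨r⟩⟩ := exists_good hV k
    exact ⟨⟨j, hj⟩, ObjectProperty.homMk (r ≫ f), ObjectProperty.homMk (r ≫ g), trivial⟩
  · intro a b f g
    obtain ⟨k, h, he⟩ := IsCofilteredOrEmpty.cone_maps f.hom g.hom
    obtain ⟨j, hj, ⟨r⟩⟩ := exists_good hV k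
    refine ⟨⟨j, hj⟩, ObjectProperty.homMk (r ≫ h), ObjectProperty.hom_ext _ ?_⟩
    simp [he]

theorem finite_fib (hV : IsAffineOpen V) (hξ : ξ default ∈ V) (U : S.Etale) [IsAffine U.left]
    (hU : ∀ w, str U w ∈ V) : Finite ((fibF ξ).obj U) := by
  haveI : IsAffine (V : Scheme.{u}) := hV
  let a : U.left ⟶ V := IsOpenImmersion.lift V.ι (str U) (by
    rintro _ ⟨w, rfl⟩; rw [Scheme.Opens.range_ι]; exact hU w)
  have ha : a ≫ V.ι = str U := IsOpenImmersion.lift_fac _ _ _
  haveI : Etale a := by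
    haveI : Etale (a ≫ V.ι) := by rw [ha]; infer_instance
    exact Etale.of_comp a V.ι
  let b : Spec (CommRingCat.of Ω) ⟶ V := IsOpenImmersion.lift V.ι ξ (by
    rintro _ ⟨w, rfl⟩; rw [Scheme.Opens.range_ι, Subsingleton.elim w default]; exact hξ)
  have hb : b ≫ V.ι = ξ := IsOpenImmersion.lift_fac _ _ _
  haveI : LocallyQuasiFinite (pullback.snd a b) := LocConst.locallyQuasiFinite_of_etale _
  haveI : IsFinite (pullback.snd a b) := IsFinite.of_locallyQuasiFinite _
  let Z : FEt.Cat (Spec (CommRingCat.of Ω)) :=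
    MorphismProperty.Over.mk ⊤ (pullback.snd a b) (FEt21.prop_of _)
  haveI hfin : Finite (FEt.fiberObj (𝟙 _) Z) := FEt21.finite_fiber (𝟙 _) Z
  have hl : ∀ t : (fibF ξ).obj U, t.left ≫ a = b := fun t => (cancel_mono V.ι).1 (by
    rw [Category.assoc, ha, hb]; exact Over.w t)
  refine @Finite.of_injective _ (FEt.fiberObj (𝟙 _) Z) hfin (fun t => (⟨pullback.lift t.left (𝟙 _) ((hl t).trans (Category.id_comp b).symm),
    pullback.lift_snd _ _ _⟩ : FEt.fiberObj (𝟙 _) Z)) fun t t' he => ?_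
  have := congrArg (fun z : FEt.fiberObj (𝟙 _) Z => z.1 ≫ pullback.fst a b) he
  simp only [pullback.lift_fst] at this
  exact Over.OverMorphism.ext this

variable (p ξ) in
/-- A compatible choice of lifts of `ξ`. -/
theorem exists_system (hs : ∀ (U : S.Etale) (x : p.fiber.obj U), str U (pt x) = ξ default) :
    ∃ τ : p.fiber ⟶ fibF ξ, ∀ (U : S.Etale) (x : p.fiber.obj U), im (τ.app U x) = pt x := by
  haveI := p.isCofiltered
  obtain ⟨_, ⟨V, hVa, rfl⟩, hξV, -⟩ :=
    S.isBasis_affineOpens.exists_subset_of_mem_open (Set.mem_univ (ξ default)) isOpen_univ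
  have hV : ∀ (U : S.Etale) (x : p.fiber.obj U), str U (pt x) ∈ V := fun U x => by rw [hs]; exact hξV
  haveI := isCofiltered_good hV
  let D : (Good p V).FullSubcategory ⥤ Type u := (Good p V).ι ⋙ CategoryOfElements.π p.fiber ⋙ fibF ξ
  haveI : ∀ j, Finite (D.obj j) := fun j => by
    haveI : IsAffine j.1.1.left := j.2.1
    exact finite_fib hVa hξV j.1.1 j.2.2
  haveI : ∀ j, Nonempty (D.obj j) := fun j => by
    obtain ⟨t, -⟩ := exists_fib ξ (U := j.1.1) (pt j.1.2) (hs _ _)
    exact ⟨t⟩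
  obtain ⟨σ, hσ⟩ := nonempty_sections_of_finite_cofiltered_system D
  have hσ' : ∀ {a b : (Good p V).FullSubcategory} (f : a.1 ⟶ b.1), (fibF ξ).map f.1 (σ a) = σ b :=
    fun {a b} f => hσ (ObjectProperty.homMk f)
  have indep : ∀ (e : p.fiber.Elements) (a b : (Good p V).FullSubcategory) (f : a.1 ⟶ e) (g : b.1 ⟶ e),
      (fibF ξ).map f.1 (σ a) = (fibF ξ).map g.1 (σ b) := fun e a b f g => by
    obtain ⟨k, r, r', hr⟩ := IsCofiltered.cospan f g
    obtain ⟨j, hj, ⟨q⟩⟩ := exists_good hV k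
    rw [← hσ' (a := ⟨j, hj⟩) (b := a) (q ≫ r), ← hσ' (a := ⟨j, hj⟩) (b := b) (q ≫ r')]
    simp only [← ConcreteCategory.comp_apply, ← Functor.map_comp]
    refine congrArg (fun m => (fibF ξ).map m (σ ⟨j, hj⟩)) ?_
    exact congrArg Subtype.val (show (q ≫ r) ≫ f = (q ≫ r') ≫ g by rw [Category.assoc, hr, Category.assoc])
  choose J hJ hf using fun e => exists_good hV e
  let τ : p.fiber ⟶ fibF ξ :=
    { app := fun U => ↾fun x =>
        (fibF ξ).map (hf (p.fiber.elementsMk U x)).some.1 (σ ⟨J _, hJ (p.fiber.elementsMk U x)⟩)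
      naturality := fun U U' g => by
        ext x
        let e : p.fiber.elementsMk U x ⟶ p.fiber.elementsMk U' (p.fiber.map g x) := ⟨g, rfl⟩
        refine Eq.trans ?_ (ConcreteCategory.congr_hom ((fibF ξ).map_comp _ g) _)
        exact indep _ ⟨J _, hJ _⟩ ⟨J _, hJ _⟩ (hf _).some ((hf (p.fiber.elementsMk U x)).some ≫ e) }
  refine ⟨τ, fun U x => ?_⟩
  by_contra hne
  obtain ⟨o, ho, hom⟩ : ∃ o : Set U.left, IsOpen o ∧ o ∩ str U ⁻¹' {ξ default} = {pt x} := by
    haveI : LocallyQuasiFinite (str U) := LocConst.locallyQuasiFinite_of_etale _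
    have hd := (str U).isDiscrete_preimage_singleton (ξ default)
    exact isDiscrete_iff_forall_exists_isOpen.1 hd (pt x) (hs U x)
  let O : U.left.Opens := ⟨o, ho⟩
  obtain ⟨y, hy⟩ := (lift_iff x O).2 (hom.ge rfl).1
  obtain ⟨j, hj, ⟨r⟩⟩ := exists_good hV (p.fiber.elementsMk _ y)
  let e : p.fiber.elementsMk (openSub O) y ⟶ p.fiber.elementsMk U x := ⟨incl O, hy⟩
  have h1 : τ.app U x = (fibF ξ).map (r.1 ≫ incl O) (σ ⟨j, hj⟩) :=
    indep _ ⟨J _, hJ _⟩ ⟨j, hj⟩ _ (r ≫ e)
  have h2 : im (τ.app U x) ∈ o := by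
    rw [h1, im_map]
    exact (r.1.left _).2
  exact hne (Set.mem_singleton_iff.1 (hom.le ⟨h2, str_im _⟩))

variable (τ : p.fiber ⟶ fibF ξ) (hτ : ∀ (U : S.Etale) (x : p.fiber.obj U), im (τ.app U x) = pt x)

include hτ in
theorem injective_app (U : S.Etale) : Function.Injective (τ.app U) := fun x x' he => by
  haveI := p.isCofiltered
  obtain ⟨k, a, b, -⟩ := IsCofilteredOrEmpty.cone_objs (p.fiber.elementsMk U x) (p.fiber.elementsMk U x')
  have ha : p.fiber.map a.1 k.2 = x := a.2
  have hb : p.fiber.map b.1 k.2 = x' := b.2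
  let t := τ.app k.1 k.2
  have htt : (fibF ξ).map a.1 t = (fibF ξ).map b.1 t := by
    rw [← NatTrans.naturality_apply, ← NatTrans.naturality_apply, ha, hb, he]
  let Δ := pullback.diagonal (str U)
  let l : k.1.left ⟶ pullback (str U) (str U) :=
    pullback.lift a.1.left b.1.left ((w_str a.1).trans (w_str b.1).symm)
  let E : k.1.left.Opens := l ⁻¹ᵁ Δ.opensRange
  have hkE : pt k.2 ∈ E := by
    rw [← hτ]
    refine ⟨(((fibF ξ).map a.1 t).left) (default : Spec (CommRingCat.of Ω)), ?_⟩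
    have e : ((fibF ξ).map a.1 t).left ≫ Δ = t.left ≫ l := by
      apply pullback.hom_ext
      · simp [Δ, l, fiber_map_left]
      · simp [Δ, l]
        exact (congrArg (fun m : (fibF ξ).obj U => m.left) htt)
    exact congrArg (fun m : Spec (CommRingCat.of Ω) ⟶ pullback (str U) (str U) => m default) e
  obtain ⟨z, hz⟩ := (lift_iff k.2 E).2 hkE
  have hab : incl E ≫ a.1 = incl E ≫ b.1 := by
    let m := IsOpenImmersion.lift Δ (E.ι ≫ l) (by rintro _ ⟨w, rfl⟩; exact w.2)
    have hm : m ≫ Δ = E.ι ≫ l := IsOpenImmersion.lift_fac _ _ _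
    have h1 := congrArg (· ≫ pullback.fst _ _) hm
    have h2 := congrArg (· ≫ pullback.snd _ _) hm
    simp [Δ, l] at h1 h2
    exact MorphismProperty.Over.Hom.ext (h1.symm.trans h2)
  exact ha.symm.trans ((congrArg (fun w => p.fiber.map a.1 w) hz.symm).trans (((map_map p _ _ z).trans
    (by rw [hab])).trans ((map_map p _ _ z).symm.trans ((congrArg (fun w => p.fiber.map b.1 w) hz).trans hb))))

include hτ in
theorem surjective_app_affine [hne : Nonempty p.fiber.Elements] (U : S.Etale) [IsAffine U.left]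
    [Finite ((fibF ξ).obj U)] (t : (fibF ξ).obj U)
    (hs : ∀ (W : S.Etale) (x : p.fiber.obj W), str W (pt x) = ξ default) :
    ∃ x, τ.app U x = t := by
  classical
  haveI := p.isCofiltered
  haveI := Finite.of_injective _ (injective_app τ hτ U)
  haveI := Fintype.ofFinite (p.fiber.obj U)
  -- an element over all elements of the fibre over `U`
  obtain ⟨k, hk⟩ := IsCofiltered.inf_objs_exists
    (Finset.univ.image fun x : p.fiber.obj U => p.fiber.elementsMk U x)
  have hk' : ∀ x : p.fiber.obj U, ∃ g : k.1 ⟶ U, p.fiber.map g k.2 = x := fun x => by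
    obtain ⟨f⟩ := hk (Finset.mem_image_of_mem _ (Finset.mem_univ x))
    exact ⟨f.1, f.2⟩
  choose g hg using hk'
  let tk := τ.app k.1 k.2
  have htk : ∀ x, (fibF ξ).map (g x) tk = τ.app U x := fun x => by
    rw [← NatTrans.naturality_apply, hg]
  by_contra hcon
  push Not at hcon
  let P := pullback (str k.1) (str U)
  let pr := pullback.fst (str k.1) (str U)
  haveI : IsSeparated (str U) := inferInstance
  let Γ : p.fiber.obj U → (k.1.left ⟶ P) := fun x =>
    pullback.lift (𝟙 _) (g x).left ((Category.id_comp _).trans (w_str (g x)).symm)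
  have hΓ : ∀ x, Γ x ≫ pr = 𝟙 _ := fun x => pullback.lift_fst _ _ _
  haveI : ∀ x, IsOpenImmersion (Γ x) := fun x => GrothLib.EtBasicB.isOpenImmersion_section pr _ (hΓ x)
  let R : P.Opens := ⟨(⋃ x, Set.range (Γ x))ᶜ,
    (isClosed_iUnion_of_finite fun x => (GrothLib.EtBasicB.isClopen_range_section pr _ (hΓ x)).1).isOpen_compl⟩
  let lq : Spec (CommRingCat.of Ω) ⟶ P := pullback.lift tk.left t.left
    ((show tk.left ≫ str k.1 = ξ from Over.w tk).trans (show ξ = t.left ≫ str U from (Over.w t).symm))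
  have hq : lq default ∈ R := by
    rintro hmem
    obtain ⟨x, w, hw⟩ := Set.mem_iUnion.1 hmem
    let m := IsOpenImmersion.lift (Γ x) lq (by
      rintro _ ⟨z, rfl⟩; rw [Subsingleton.elim z default]; exact ⟨w, hw⟩)
    have hm : m ≫ Γ x = lq := IsOpenImmersion.lift_fac _ _ _
    have h1 := congrArg (· ≫ pullback.fst _ _) hm
    have h2 := congrArg (· ≫ pullback.snd _ _) hm
    simp [Γ, lq] at h1 h2
    refine hcon x (Over.OverMorphism.ext ?_)
    rw [← htk, fiber_map_left, ← h1]
    exact h2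
  let Rs : S.Etale := Scheme.Etale.mk (R.ι ≫ pr ≫ str k.1)
  let π₁ : Rs ⟶ k.1 := MorphismProperty.Over.homMk (R.ι ≫ pr) (Category.assoc _ _ _)
  let π₂ : Rs ⟶ U := MorphismProperty.Over.homMk (R.ι ≫ pullback.snd (str k.1) (str U)) (by
    show (R.ι ≫ pullback.snd _ _) ≫ str U = R.ι ≫ pr ≫ str k.1
    rw [Category.assoc, ← pullback.condition])
  haveI : Etale π₁.left := inferInstanceAs (Etale (R.ι ≫ pr))
  let O : k.1.left.Opens := ⟨Set.range π₁.left, π₁.left.isOpenMap.isOpen_range⟩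
  have hO : pt k.2 ∈ O := by
    rw [← hτ]
    refine ⟨⟨_, hq⟩, ?_⟩
    exact congrArg (fun m : Spec (CommRingCat.of Ω) ⟶ k.1.left => m default) (pullback.lift_fst tk.left t.left _)
  obtain ⟨y, hy⟩ := (lift_iff k.2 O).2 hO
  let Rv : Sieve (openSub O) :=
    { arrows := fun W h => ∃ r : W ⟶ Rs, r ≫ π₁ = h ≫ incl O
      downward_closed := by
        rintro W W' h ⟨r, hr⟩ j
        exact ⟨j ≫ r, by rw [Category.assoc, hr, Category.assoc]⟩ }
  have hRv : Rv ∈ S.smallEtaleTopology _ := by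
    rw [mem_topology_iff]
    intro w
    obtain ⟨v, hv⟩ := w.2
    obtain ⟨h, hh⟩ := exists_factor O π₁ fun v => ⟨v, rfl⟩
    exact ⟨Rs, h, v, ⟨𝟙 _, by rw [Category.id_comp, hh]⟩, O.ι.isOpenEmbedding.injective
      ((congrArg (fun m : Rs ⟶ k.1 => m.left v) hh).trans hv)⟩
  obtain ⟨W, h, ⟨r, hr⟩, z, hz⟩ := p.jointly_surjective Rv hRv y
  let z' := p.fiber.map r z
  have hz' : p.fiber.map π₁ z' = k.2 := by rw [map_map, hr, ← map_map, hz, hy]
  let x := p.fiber.map π₂ z'
  let tz := τ.app Rs z'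
  have h1 : (fibF ξ).map π₁ tz = tk := by rw [← NatTrans.naturality_apply, hz']
  have h2 : (fibF ξ).map π₂ tz = τ.app U x := by rw [← NatTrans.naturality_apply]
  have e : tk.left ≫ Γ x = tz.left ≫ R.ι := by
    have h1' : tz.left ≫ R.ι ≫ pr = tk.left := congrArg (fun m : (fibF ξ).obj k.1 => m.left) h1
    have h2' : tz.left ≫ R.ι ≫ pullback.snd _ _ = (τ.app U x).left :=
      congrArg (fun m : (fibF ξ).obj U => m.left) h2
    apply pullback.hom_ext
    · simp only [Γ, Category.assoc, pullback.lift_fst, Category.comp_id]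
      exact h1'.symm
    · simp only [Γ, Category.assoc, pullback.lift_snd]
      rw [h2', ← htk]
      rfl
  exact (im tz).2 (Set.mem_iUnion.2 ⟨x, im tk,
    congrArg (fun m : Spec (CommRingCat.of Ω) ⟶ P => m default) e⟩)

end Compare

theorem exists_iso (S : Scheme.{u}) (p : GrothendieckTopology.Point.{u} S.smallEtaleTopology) :
    ∃ (Ω : Type u) (_ : Field Ω) (_ : IsSepClosed Ω) (ξ : Spec (CommRingCat.of Ω) ⟶ S),
      Nonempty (p.fiber ≅ (Scheme.pointSmallEtale ξ).fiber) := by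
  haveI := p.isCofiltered
  haveI : Nonempty p.fiber.Elements := IsCofiltered.nonempty
  obtain ⟨s, hs⟩ := exists_base_point p
  let ξ := gpt s
  have hs' : ∀ (U : S.Etale) (x : p.fiber.obj U), str U (pt x) = ξ default := fun U x => by
    rw [hs, gpt_default]
  obtain ⟨τ, hτ⟩ := exists_system p ξ hs'
  have hb : ∀ U, Function.Bijective (τ.app U) := fun U => ⟨injective_app τ hτ U, fun t => by
    obtain ⟨_, ⟨V, hVa, rfl⟩, hξV, -⟩ :=
      S.isBasis_affineOpens.exists_subset_of_mem_open (Set.mem_univ (ξ default)) isOpen_univ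
    obtain ⟨_, ⟨O, hO, rfl⟩, hmem, hsub⟩ := U.left.isBasis_affineOpens.exists_subset_of_mem_open
      (show im t ∈ (str U ⁻¹ᵁ V : Set U.left) from by
        show str U (im t) ∈ V
        rw [str_im]; exact hξV) (str U ⁻¹ᵁ V).isOpen
    haveI : IsAffine (openSub O).left := hO
    haveI := finite_fib (ξ := ξ) hVa hξV (openSub O) fun w => hsub w.2
    let m := IsOpenImmersion.lift (Scheme.Opens.ι O) t.left (by
      rintro _ ⟨z, rfl⟩
      obtain rfl : z = (default : Spec (CommRingCat.of (SeparableClosure (S.residueField s)))) :=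
        @Subsingleton.elim (Spec (CommRingCat.of (SeparableClosure (S.residueField s)))) inferInstance _ _
      exact ⟨⟨_, hmem⟩, rfl⟩)
    let t' : (fibF ξ).obj (openSub O) := fib ξ (U := openSub O) m (by
      show m ≫ Scheme.Opens.ι O ≫ str U = ξ
      rw [IsOpenImmersion.lift_fac_assoc]; exact Over.w t)
    obtain ⟨x, hx⟩ := surjective_app_affine τ hτ (openSub O) t' hs'
    refine ⟨p.fiber.map (incl O) x, ?_⟩
    rw [NatTrans.naturality_apply, hx]
    refine Over.OverMorphism.ext ?_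
    exact IsOpenImmersion.lift_fac (Scheme.Opens.ι O) t.left _⟩
  haveI : ∀ U, IsIso (τ.app U) := fun U => (isIso_iff_bijective _).2 (hb U)
  haveI : IsIso τ := NatIso.isIso_of_isIso_app _
  exact ⟨_, inferInstance, inferInstance, ξ, ⟨asIso τ⟩⟩

end GrothLib.EtPoint18
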